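import Groth.Prelude.Def_GLin
import Mathlib

/-!
# Gradings of algebras with a coaction of a group algebra
-/

set_option autoImplicit false

universe u v w

open TensorProduct

namespace Groth.Agent.H1TorusGr

open scoped Classical

variable {k : Type u} [Field k] {Λ : Type v} [AddCommGroup Λ] {R : Type w} [CommRing R] [Algebra k R]
  [HopfRep.Comod k (AddMonoidAlgebra k Λ) R]

local notation "H" => AddMonoidAlgebra k Λ
local notation "E" => fun w : Λ => HopfRep.eigenspace k (AddMonoidAlgebra k Λ) R (AddMonoidAlgebra.single w 1)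

/-- The coefficient functional. -/
noncomputable def cf (w : Λ) : H →ₗ[k] k :=
  Finsupp.lapply w ∘ₗ (AddMonoidAlgebra.coeffLinearEquiv k).toLinearMap

theorem cf_single (w v : Λ) (c : k) : cf (k := k) w (AddMonoidAlgebra.single v c) = Finsupp.single v c w := rfl

/-- All components of a tensor. -/
noncomputable def comps : R ⊗[k] H →ₗ[k] Λ →₀ R :=
  (TensorProduct.finsuppScalarRight k k R Λ).toLinearMap ∘ₗ
    (AddMonoidAlgebra.coeffLinearEquiv k).toLinearMap.lTensor R

theorem comps_tmul (r : R) (v : Λ) (c : k) :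
    comps (r ⊗ₜ[k] AddMonoidAlgebra.single v c) = Finsupp.single v (c • r) := by
  classical
  ext w
  simp only [comps, LinearMap.comp_apply, LinearMap.lTensor_tmul, LinearEquiv.coe_coe]
  rw [show AddMonoidAlgebra.coeffLinearEquiv k (AddMonoidAlgebra.single v c) = Finsupp.single v c from rfl]
  rw [TensorProduct.finsuppScalarRight_apply_tmul_apply, Finsupp.single_apply, Finsupp.single_apply]
  split <;> simp

/-- The component of weight `w`. -/
noncomputable def comp (w : Λ) (r : R) : R := comps (HopfRep.Comod.coact (k := k) (A := H) r) w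

theorem comp_add (w : Λ) (r r' : R) : comp (k := k) w (r + r') = comp (k := k) w r + comp (k := k) w r' := by
  simp [comp]

theorem comp_zero (w : Λ) : comp (k := k) w (0 : R) = 0 := by simp [comp]

theorem comps_apply (z : R ⊗[k] H) (w : Λ) :
    comps z w = (TensorProduct.rid k R) ((cf (k := k) w).lTensor R z) := by
  classical
  induction z with
  | zero => simp
  | tmul r f =>
    induction f using AddMonoidAlgebra.induction_linear with
    | zero => simp
    | add a b ha hb => simp only [TensorProduct.tmul_add, map_add, Finsupp.add_apply, ha, hb]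
    | single v c =>
      rw [comps_tmul, LinearMap.lTensor_tmul, cf_single, TensorProduct.rid_tmul, Finsupp.single_apply,
        Finsupp.single_apply]
      split <;> simp
  | add a b ha hb => simp only [map_add, Finsupp.add_apply, ha, hb]

/-- The components sum up to the element. -/
theorem sum_comp (r : R) :
    ((comps (HopfRep.Comod.coact (k := k) (A := H) r) : Λ →₀ R).sum fun _ x => x) = r := by
  classical
  have key : ∀ z : R ⊗[k] H, ((comps z : Λ →₀ R).sum fun _ x => x) =
      TensorProduct.rid k R ((CoalgebraStruct.counit (R := k) (A := H)).lTensor R z) := by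
    intro z
    induction z with
    | zero => simp
    | tmul a f =>
      induction f using AddMonoidAlgebra.induction_linear with
      | zero => simp
      | add f g hf hg =>
        rw [TensorProduct.tmul_add, map_add, map_add, map_add, Finsupp.sum_add_index' (fun _ => rfl) (fun _ _ _ => rfl),
          hf, hg]
      | single v c => simp [comps_tmul]
    | add a b ha hb =>
      rw [map_add, map_add, map_add, Finsupp.sum_add_index' (fun _ => rfl) (fun _ _ _ => rfl), ha, hb]
  rw [key]
  have h := LinearMap.congr_fun (HopfRep.Comod.counit_comp (k := k) (A := H) (V := R)) r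
  rw [LinearMap.comp_apply] at h
  rw [h]
  simp

/-- The components are eigenvectors. -/
theorem comp_mem (w : Λ) (r : R) : comp (k := k) w r ∈ E w := by
  classical
  let T : R ⊗[k] (H ⊗[k] H) →ₗ[k] R ⊗[k] H :=
    ((TensorProduct.rid k H).toLinearMap ∘ₗ (cf (k := k) w).lTensor H).lTensor R
  have h1 : ∀ z : R ⊗[k] H, T ((TensorProduct.assoc k R H H).toLinearMap
      ((HopfRep.Comod.coact (k := k) (A := H) (V := R)).rTensor H z)) =
      HopfRep.Comod.coact (k := k) (A := H) (TensorProduct.rid k R ((cf (k := k) w).lTensor R z)) := by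
    intro z
    induction z with
    | zero => simp
    | tmul a f =>
      rw [LinearMap.rTensor_tmul, LinearMap.lTensor_tmul, TensorProduct.rid_tmul, map_smul]
      induction (HopfRep.Comod.coact (k := k) (A := H) a) with
      | zero => simp
      | tmul b g => simp [T]
      | add p q hp hq => simp only [TensorProduct.add_tmul, map_add, smul_add, hp, hq]
    | add a b ha hb => simp only [map_add, ha, hb]
  have h2 : ∀ z : R ⊗[k] H, T ((CoalgebraStruct.comul (R := k) (A := H)).lTensor R z) =
      comps z w ⊗ₜ[k] AddMonoidAlgebra.single w (1 : k) := by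
    intro z
    induction z with
    | zero => simp
    | tmul a f =>
      induction f using AddMonoidAlgebra.induction_linear with
      | zero => simp
      | add f g hf hg =>
        simp only [TensorProduct.tmul_add, map_add, hf, hg, Finsupp.add_apply, TensorProduct.add_tmul]
      | single v c =>
        rw [comps_tmul, LinearMap.lTensor_tmul, AddMonoidAlgebra.comul_single]
        simp only [CommSemiring.comul_apply, TensorProduct.map_tmul, T, LinearMap.lTensor_tmul,
          LinearMap.comp_apply, LinearEquiv.coe_coe, TensorProduct.rid_tmul, cf_single,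
          AddMonoidAlgebra.lsingle_apply]
        rcases eq_or_ne v w with rfl | h
        · rw [Finsupp.single_eq_same, Finsupp.single_eq_same, TensorProduct.smul_tmul]
        · rw [Finsupp.single_eq_of_ne h.symm, Finsupp.single_eq_of_ne h.symm, zero_smul,
            TensorProduct.zero_tmul, TensorProduct.tmul_zero]
    | add a b ha hb => simp only [map_add, ha, hb, Finsupp.add_apply, TensorProduct.add_tmul]
  have hc := LinearMap.congr_fun (HopfRep.Comod.coassoc (k := k) (A := H) (V := R)) r
  rw [LinearMap.comp_apply, LinearMap.comp_apply] at hc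
  have h3 := congrArg T hc
  rw [h1, LinearMap.comp_apply, h2, ← comps_apply] at h3
  exact h3

theorem comp_of_mem {v : Λ} {f : R} (hf : f ∈ E v) (w : Λ) : comp (k := k) w f = Finsupp.single v f w := by
  have hf' : HopfRep.Comod.coact (k := k) (A := H) f = f ⊗ₜ[k] AddMonoidAlgebra.single v (1 : k) := hf
  rw [comp, hf', comps_tmul, one_smul]

variable [GLin.IsCoactAlg k (AddMonoidAlgebra k Λ) R]

theorem mul_mem' {v w : Λ} {f g : R} (hf : f ∈ E v) (hg : g ∈ E w) : f * g ∈ E (v + w) := by
  have hf' : HopfRep.Comod.coact (k := k) (A := H) f = f ⊗ₜ[k] AddMonoidAlgebra.single v (1 : k) := hf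
  have hg' : HopfRep.Comod.coact (k := k) (A := H) g = g ⊗ₜ[k] AddMonoidAlgebra.single w (1 : k) := hg
  show HopfRep.Comod.coact (k := k) (A := H) (f * g) = _
  rw [GLin.IsCoactAlg.coact_mul, hf', hg', Algebra.TensorProduct.tmul_mul_tmul, AddMonoidAlgebra.single_mul_single,
    one_mul]

theorem mem_invariants_iff (r : R) : r ∈ GLin.invariants k H R ↔ r ∈ E 0 := by
  show HopfRep.Comod.coact (k := k) (A := H) r = r ⊗ₜ[k] (1 : H) ↔
    HopfRep.Comod.coact (k := k) (A := H) r = r ⊗ₜ[k] AddMonoidAlgebra.single 0 (1 : k)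
  rw [AddMonoidAlgebra.one_def]

variable (hpos : ∀ w : Λ, HopfRep.eigenspace k (AddMonoidAlgebra k Λ) R (AddMonoidAlgebra.single w 1) ≠ ⊥ →
  HopfRep.eigenspace k (AddMonoidAlgebra k Λ) R (AddMonoidAlgebra.single (-w) 1) ≠ ⊥ → w = 0)

include hpos in
theorem comp_zero_of_mem_span {r : R} (hr : r ∈ Ideal.span {f : R | ∃ w : Λ, w ≠ 0 ∧ f ∈ E w}) :
    comp (k := k) (0 : Λ) r = 0 := by
  classical
  suffices h : ∀ g : R, comp (k := k) (0 : Λ) (g * r) = 0 by simpa using h 1
  induction hr using Submodule.span_induction with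
  | mem f hf =>
    intro g
    obtain ⟨w, hw, hf⟩ := hf
    rw [← sum_comp (k := k) (Λ := Λ) g, Finsupp.sum, Finset.sum_mul]
    have : ∀ s : Finset Λ, comp (k := k) (0 : Λ) (∑ v ∈ s, (comps (HopfRep.Comod.coact (k := k) (A := H) g)) v * f) = 0 := by
      intro s
      induction s using Finset.induction_on with
      | empty => simp [comp_zero]
      | @insert v s hv ih =>
        rw [Finset.sum_insert hv, comp_add, ih, add_zero,
          show (comps (HopfRep.Comod.coact (k := k) (A := H) g)) v = comp (k := k) v g from rfl,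
          comp_of_mem (mul_mem' (comp_mem v g) hf)]
        rcases eq_or_ne (v + w) 0 with h | h
        · obtain rfl : v = -w := eq_neg_of_add_eq_zero_left h
          by_cases hf0 : f = 0
          · simp [hf0]
          by_cases hc : comp (k := k) (-w) g = 0
          · rw [hc]
            simp
          exact absurd (hpos w (fun hb => hf0 ((Submodule.mem_bot k).1 (hb ▸ hf)))
            (fun hb => hc ((Submodule.mem_bot k).1 (hb ▸ comp_mem (-w) g)))) hw
        · exact Finsupp.single_eq_of_ne h.symm
    exact this _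
  | zero => intro g; simp [comp_zero]
  | add a b _ _ ha hb => intro g; rw [mul_add, comp_add, ha, hb, add_zero]
  | smul a x _ hx => intro g; rw [smul_eq_mul, ← mul_assoc]; exact hx _

theorem sub_comp_zero_mem (r : R) : r - comp (k := k) (0 : Λ) r ∈ Ideal.span {f : R | ∃ w : Λ, w ≠ 0 ∧ f ∈ E w} := by
  classical
  let q := Ideal.Quotient.mk (Ideal.span {f : R | ∃ w : Λ, w ≠ 0 ∧ f ∈ E w})
  rw [← Ideal.Quotient.eq_zero_iff_mem, map_sub, sub_eq_zero]
  conv_lhs => rw [← sum_comp (k := k) (Λ := Λ) r]
  rw [Finsupp.sum, map_sum, Finset.sum_eq_single 0]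
  · rfl
  · intro w _ hw
    exact Ideal.Quotient.eq_zero_iff_mem.2 (Ideal.subset_span ⟨w, hw, comp_mem w r⟩)
  · intro h
    rw [Finsupp.notMem_support_iff.1 h, map_zero]

include hpos in
theorem bijective_invariants :
    Function.Bijective ((Ideal.Quotient.mkₐ k (Ideal.span {f : R | ∃ w : Λ, w ≠ 0 ∧ f ∈ E w})).comp
      (GLin.invariants k H R).val) := by
  constructor
  · intro a b hab
    have h1 := comp_zero_of_mem_span hpos (r := (a : R) - b) (Ideal.Quotient.eq.1 hab)
    have h2 := comp_of_mem ((mem_invariants_iff _).1 (sub_mem a.2 b.2)) (0 : Λ)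
    rw [h1, Finsupp.single_eq_same] at h2
    exact Subtype.ext (sub_eq_zero.1 h2.symm)
  · intro z
    obtain ⟨r, rfl⟩ := Ideal.Quotient.mk_surjective z
    exact ⟨⟨comp (k := k) (0 : Λ) r, (mem_invariants_iff _).2 (comp_mem 0 r)⟩,
      (Ideal.Quotient.eq.2 (sub_comp_zero_mem r)).symm⟩

theorem orbitHom_eq (x : R →ₐ[k] k) {v : Λ} {f : R} (hf : f ∈ E v) :
    GLin.orbitHom k H x f = AddMonoidAlgebra.single v (x f) := by
  have hf' : GLin.coactAlgHom k H R f = f ⊗ₜ[k] AddMonoidAlgebra.single v (1 : k) := hf
  show (Algebra.TensorProduct.lid k H) ((Algebra.TensorProduct.map x (AlgHom.id k H)) (GLin.coactAlgHom k H R f)) = _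
  rw [hf', Algebra.TensorProduct.map_tmul, Algebra.TensorProduct.lid_tmul, AlgHom.id_apply]
  simp

theorem isClosedOrbit_of_isFixedPt (x : R →ₐ[k] k) (h : GLin.IsFixedPt k H x) : GLin.IsClosedOrbit k H x := by
  rw [GLin.IsFixedPt] at h
  rw [GLin.IsClosedOrbit, h]
  have hm : (RingHom.ker x.toRingHom).IsMaximal :=
    RingHom.ker_isMaximal_of_surjective x.toRingHom fun c => ⟨algebraMap k R c, x.commutes c⟩
  convert ((PrimeSpectrum.isClosed_singleton_iff_isMaximal ⟨RingHom.ker x.toRingHom, hm.isPrime⟩).2 hm)
  ext P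
  simp only [Set.mem_range, Set.mem_singleton_iff]
  have key : ∀ Q : PrimeSpectrum H,
      PrimeSpectrum.comap ((Algebra.ofId k H).comp x).toRingHom Q = ⟨RingHom.ker x.toRingHom, hm.isPrime⟩ := by
    intro Q
    apply PrimeSpectrum.ext
    ext r
    show algebraMap k H (x r) ∈ Q.asIdeal ↔ x r = 0
    constructor
    · intro hr
      by_contra h0
      exact Q.2.ne_top (Ideal.eq_top_of_isUnit_mem _ hr ((Ne.isUnit h0).map _))
    · intro hr
      rw [hr, map_zero]
      exact zero_mem _
  constructor
  · rintro ⟨Q, rfl⟩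
    exact key Q
  · rintro rfl
    obtain ⟨Q, hQ⟩ := Ideal.exists_maximal H
    exact ⟨⟨Q, hQ.isPrime⟩, key _⟩

include hpos in
theorem isFixedPt_of_isClosedOrbit (x : R →ₐ[k] k) (h : GLin.IsClosedOrbit k H x) : GLin.IsFixedPt k H x := by
  classical
  have hI : ∀ r, GLin.orbitHom k H x r =
      (comps (HopfRep.Comod.coact (k := k) (A := H) r) : Λ →₀ R).sum fun v y => AddMonoidAlgebra.single v (x y) := by
    intro r
    conv_lhs => rw [← sum_comp (k := k) (Λ := Λ) r]
    rw [map_finsuppSum]
    exact Finsupp.sum_congr fun v _ => orbitHom_eq x (comp_mem v r)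
  -- every eigenvector of nonzero weight vanishes at `x`
  have hvan : ∀ (w : Λ) (f : R), w ≠ 0 → f ∈ E w → x f = 0 := by
    intro w f hw hf
    by_contra h0
    let b := RingEquiv.ofBijective _ (bijective_invariants hpos)
    let x0 : R →+* k := ((x.comp (GLin.invariants k H R).val).toRingHom.comp b.symm.toRingHom).comp
      (Ideal.Quotient.mk _)
    have hx0 : ∀ r, x0 r = x (comp (k := k) (0 : Λ) r) := fun r => by
      show x ((b.symm (Ideal.Quotient.mk _ r) : GLin.invariants k H R) : R) = _
      congr 1
      have : b.symm (Ideal.Quotient.mk _ r) = ⟨comp (k := k) (0 : Λ) r, (mem_invariants_iff _).2 (comp_mem 0 r)⟩ := by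
        rw [RingEquiv.symm_apply_eq]
        exact Ideal.Quotient.eq.2 (sub_comp_zero_mem r)
      rw [this]
    let P : PrimeSpectrum R := ⟨RingHom.ker x0, RingHom.ker_isPrime x0⟩
    have hP : P ∈ Set.range (PrimeSpectrum.comap (GLin.orbitHom k H x).toRingHom) := by
      rw [← h.closure_eq, PrimeSpectrum.closure_range_comap, PrimeSpectrum.mem_zeroLocus]
      intro r hr
      have hr' : GLin.orbitHom k H x r = 0 := hr
      show x0 r = 0
      rw [hx0]
      have h1 := congrArg (cf (k := k) (0 : Λ)) hr'
      rw [hI, map_finsuppSum, map_zero] at h1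
      rw [← h1]
      simp only [cf_single, Finsupp.single_apply]
      rw [Finsupp.sum, Finset.sum_ite_eq']
      split_ifs with hs
      · rfl
      · show x ((comps (HopfRep.Comod.coact (k := k) (A := H) r)) 0) = 0
        rw [Finsupp.notMem_support_iff.1 hs, map_zero]
    obtain ⟨Q, hQ⟩ := hP
    have hfP : f ∈ P.asIdeal := by
      show x0 f = 0
      rw [hx0, comp_of_mem hf, Finsupp.single_eq_of_ne hw.symm, map_zero]
    rw [← hQ] at hfP
    have hfQ : GLin.orbitHom k H x f ∈ Q.asIdeal := hfP
    rw [orbitHom_eq x hf] at hfQ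
    refine Q.2.ne_top (Ideal.eq_top_of_isUnit_mem _ hfQ (IsUnit.of_mul_eq_one (AddMonoidAlgebra.single (-w) (x f)⁻¹) ?_))
    rw [AddMonoidAlgebra.single_mul_single, add_neg_cancel, mul_inv_cancel₀ h0, AddMonoidAlgebra.one_def]
  refine AlgHom.ext fun r => ?_
  conv_lhs => rw [← sum_comp (k := k) (Λ := Λ) r]
  conv_rhs => rw [← sum_comp (k := k) (Λ := Λ) r]
  rw [map_finsuppSum, map_finsuppSum]
  refine Finsupp.sum_congr fun v _ => ?_
  rw [show (comps (HopfRep.Comod.coact (k := k) (A := H) r)) v = comp (k := k) v r from rfl,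
    orbitHom_eq x (comp_mem v r), AlgHom.comp_apply]
  rcases eq_or_ne v 0 with rfl | hv
  · rfl
  · rw [hvan v _ hv (comp_mem v r), map_zero]
    simp

end Groth.Agent.H1TorusGr
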